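import Cfsg.Agent.H24.Sd.Tools
import Cfsg.Agent.HN.AutHS
import Cfsg.Agent.Schreier.PcSeries

/-!
# S4579: the Higman-Sims group (helper809)

A Sylow 2-subgroup (order 512) of the group `Q` on 100 points is generated by three involutions.
-/

set_option autoImplicit false
set_option maxRecDepth 4000

namespace Cfsg.Agent.H809.Sd.HS

open Cfsg.Agent.H643.Sd Cfsg.Agent.H24.Sd Cfsg.Agent.SporadicA.PermTab Cfsg.Agent.HN.HS100
  Cfsg.Agent.HN.AutBound Cfsg.Agent.HN.AutHS Cfsg.Agent.Schreier.PcSeries Equiv

universe u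

def tA : ℕ := 0xa1602603b024100108330b6158118620a2168070540220682b82e0640501a861072128128480741181382b03e0182085e07e0881c0010c011c2583d0400d8268340b813c1883005e140168040880080002808a0982480b0b20f82e83708603c0c01b0381480401d02e0580a84e02617c2980703c1540180c048024050190201083182c01a0a81e029
def tB : ℕ := 0x2e0ac0701b0500cc1d84c0a212c0f8070a810c200570060e02d83403404c0305c0b40c000812052030220450ac0280a05504c078020250ba000118520440a8120500bc0b00b04a00a0b4170320c40d82385f0200fc1e0350720dc0c8180b20f8078080c013c108200c60c40104109c1200682703a184088460121080581c0b01341783d0a60542483a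
def tC : ℕ := 0xc61601106001e0241185704e0dc198620b802c0801301a00c108160740901d84c02a0d01303908e094208420861102281807e0f81483c09a13c240380b40d81a84a0b20c81702d05e0c4180110360701e8280b61242304e0ba1842881403e01c0402a0560100504002e140258200a8038160550be0482980c0ac0642f01d03c0080281a0a401800800
def t3 : ℕ := 0xc6188110350200202e05d08213828858046050078540340442c82e0741681d83e072128128150640981382a0860702d81907e1301483c09a13c258000480d83003404211c0b03005e140168030041101e82808a118248370ae1841980b03e0380484200c14c2000a02e0c42405602601c2905f0aa0780200c0400600e85e02406c0280d0580ac00838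
def t4 : ℕ := 0xc61801c85801e07c010570140181983e04802c0a04c07000c2a82d052170258130c20c4130220340940c8200bc1442005b0021881d00c09013c2680d0240742a02e0ac14c2501605e0d02801103c0701e8080301242304e01c0542201001201c1405f0560001384502e0c01d84206a174290210541681903c0b21042183603608c028470580dc1f804
def t5 : ℕ := 0xa09c2f0190241840e0550a81642d0450a208c2e05b0a60b02b82e07a0500484003e1282482808e1182c0070720900984c07e0602783c0100e82183201e0540502d01c0e01883002e1401a052020008148480c4098128420ac0740d81e0960801105d0420103003e05e0581b04e08217c0882b06e0cc0680c00c0d42683b08802c3181a0060a800800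
def t6 : ℕ := 0xc604c1d8350b20200301b08a0482f8540560a8108580a60b00802e07a01c1103e02a0c02483908e1182d8140500801381807e1302783c0c20a42403801c07c3002d01e0c80b04a05e1401a0520ae1581d0430820981281e0041342a84206c0900480b0b80680504002e0c4258440c4168018510660dc0680c0380640e85e09c1740280402208c00800
def t7 : ℕ := 0xa0d80501d00e0d41000b072050270280b215c0304300013c2d0500581582005e0b6128128270a609824002026038258610180202900103200c20804042160048340b80681883002e0b81683d0be0ac0886202a118248330a20602e8370a803c1f01e0380e01103b05e0582282303e1101d0120361542383f04813426060054108318320520401e00d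
def t8 : ℕ := 0xc61602683e0540241b82408208c2b06209c1642101301a0b00a05007a15c30835072128248150001181381003e1542d80a07e1802783c0440a4258320ba0a0260340160e01883005e0b81685200e17c1d03608a0981285c0b40ec1002108606c0400f03c0100c01902e058240510a8008018440380182980c0661002f01d0560380281a02204800847
def u1 : ℕ := 0xc6114200080be1300d80e0a808c2b0270ae1641985b022010288500701380505e086128128280741183101009602c0986107e0741900103211c0f84f03c0540482d0aa0f41883002e0b81a01a00e0a8000480b0098248060b40600e00f0720dc1f0210ba0b01d82205e0581b014082048298440401700180c0841341a8600560900285201a0081e029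
def u2 : ℕ := 0xc60882a04b0b2114030240101682f83b00e0a81006101a0a40a04a0060ac098480c01402484c08e1182f0100800840e8430780e40883f0b00b01f03201c0640a8310660e01a02e05e0c00b03a09c158290180120981285c0461882105501406c2081c03c0681b02802e0b41a85109a0481e84401e0dc2980101607c1385b0ae1740280409e00806000
def oc0 : ℕ := 0xffe0a4190200600a810838064064140300700801c03afffffc197ffffe0a808838025fffff822fffffc1081a05204015030ffe0c3fffff035ffc0c7ff0440440c7ff063fffffffffffffffffff040023ff839051fffff8210420a4140280600c011012031ffc10028fffffc048300620a7ff8310520cbfffff0500641001907002bfffffffe003fffff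
def oc1 : ℕ := 0xffffffffffffffffffffffffffffffffffffffffffff023ffffffff013ffffffffffffffffffffffffffffffffffffffffffffffc107ffffffffff810fffffffffffffe067fffffffffffffffffffffffffffffffffffffffffffffffffffffffffffffffffffffffffffffffffffffffc0c7fffffffc047ffffffffffffffffffffffff001ffffffff

/-- the tables of the series -/
def tb : List ℕ := [tA, tB, tC, t3, t4, t5, t6, t7, t8]
def tbf (k : ℕ) : ℕ := tb.getD k 0
/-- the members of the series as words in `A`, `B`, `C` (products of permutations) -/
def wd : List (List ℕ) := [[0], [1], [2], [2, 0, 2, 0], [2, 1, 2, 1], [1, 0, 1, 0], [2, 1, 0, 1, 0, 2, 1, 0, 1, 0], [2, 1, 2, 0, 2, 1, 2, 0], [2, 1, 2, 1, 2, 1, 2, 1]]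
def sqw : List (List ℕ) := [[], [], [], [], [8], [], [], [8], []]
def comw : List (List (List ℕ)) := [[[], [5], [3], [], [5, 7], [], [8], [8], []],
  [[], [], [4, 8], [5, 7], [8], [], [8], [8], []],
  [[], [], [], [], [8], [6], [], [8], []],
  [[], [], [], [], [6], [8], [], [], []],
  [[], [], [], [], [], [8], [], [], []],
  [[], [], [], [], [], [], [], [], []],
  [[], [], [], [], [], [], [], [], []],
  [[], [], [], [], [], [], [], [], []],
  [[], [], [], [], [], [], [], [], []]]

theorem cA : chkInv 100 tA tA = true := by decide +kernel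
theorem cB : chkInv 100 tB tB = true := by decide +kernel
theorem cC : chkInv 100 tC tC = true := by decide +kernel

def gA : Perm (Fin 100) := mkPerm tA tA cA
def gB : Perm (Fin 100) := mkPerm tB tB cB
def gC : Perm (Fin 100) := mkPerm tC tC cC

theorem rowsA : RowsOK 100 adjA tA 0 100 := rowsOK_of_chk (chkInv_lt cA) (chkInv_inj cA) (by decide +kernel)
theorem rowsB : RowsOK 100 adjA tB 0 100 := rowsOK_of_chk (chkInv_lt cB) (chkInv_inj cB) (by decide +kernel)
theorem rowsC : RowsOK 100 adjA tC 0 100 := rowsOK_of_chk (chkInv_lt cC) (chkInv_inj cC) (by decide +kernel)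

/-! ### words -/

/-- the permutation `g` is given by the word `L` (first letter first) -/
def Rep (g : Perm (Fin 100)) (L : List ℕ) : Prop := ∀ i : Fin 100, (g i : ℕ) = ev L i

theorem ev_append (L M : List ℕ) (j : ℕ) : ev (L ++ M) j = ev M (ev L j) := by
  induction L generalizing j with
  | nil => rfl
  | cons P L ih => rw [List.cons_append, ev_cons, ev_cons, ih]

theorem Rep.mul {g h : Perm (Fin 100)} {L M : List ℕ} (hg : Rep g L) (hh : Rep h M) : Rep (g * h) (M ++ L) := by
  intro i
  rw [Perm.mul_apply, ev_append, hg, hh]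

theorem Rep.one : Rep 1 [] := fun _ => rfl

theorem Rep.eq {g h : Perm (Fin 100)} {L M : List ℕ} (hg : Rep g L) (hh : Rep h M)
    (hc : allB (fun i => Nat.beq (ev L i) (ev M i)) 100 = true) : g = h := by
  refine Equiv.ext fun i => Fin.ext ?_
  rw [hg, hh]
  exact Nat.eq_of_beq_eq_true ((allB_iff _ _).1 hc i i.2)

theorem Rep.change {g : Perm (Fin 100)} {L M : List ℕ} (hg : Rep g L)
    (hc : allB (fun i => Nat.beq (ev L i) (ev M i)) 100 = true) : Rep g M := by
  intro i
  rw [hg]
  exact Nat.eq_of_beq_eq_true ((allB_iff _ _).1 hc i i.2)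

theorem rep_prod {f : ℕ → Perm (Fin 100)} {t : ℕ → ℕ} {L : List ℕ} (h : ∀ k ∈ L, Rep (f k) [t k]) :
    Rep ((L.map f).prod) (L.map t).reverse := by
  induction L with
  | nil => exact Rep.one
  | cons k L ih =>
    rw [List.map_cons, List.prod_cons, List.map_cons, List.reverse_cons]
    exact (h k List.mem_cons_self).mul (ih fun j hj => h j (List.mem_cons_of_mem _ hj))

theorem repA : Rep gA [tA] := fun _ => rfl
theorem repB : Rep gB [tB] := fun _ => rfl
theorem repC : Rep gC [tC] := fun _ => rfl

theorem sqA : gA * gA = 1 := (repA.mul repA).eq Rep.one (by decide +kernel)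
theorem sqB : gB * gB = 1 := (repB.mul repB).eq Rep.one (by decide +kernel)
theorem sqC : gC * gC = 1 := (repC.mul repC).eq Rep.one (by decide +kernel)

theorem cntA : cntB (fun i => cond (Nat.beq (lk tA i) i) false true) 100 80 = true := by decide +kernel
theorem cntB' : cntB (fun i => cond (Nat.beq (lk tB i) i) false true) 100 100 = true := by decide +kernel
theorem cntC : cntB (fun i => cond (Nat.beq (lk tC i) i) false true) 100 80 = true := by decide +kernel

theorem sign_one {g : Perm (Fin 100)} {t m : ℕ} (hr : Rep g [t]) (h1 : g * g = 1)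
    (hc : cntB (fun i => cond (Nat.beq (lk t i) i) false true) 100 m = true) (hm : Even (m / 2)) :
    Perm.sign g = 1 := by
  have h2 : g.support.card = m := by
    rw [← card_fin_of_cntB _ 100 m hc]
    congr 1
    ext i
    rw [Perm.mem_support]
    simp only [Finset.mem_filter, Finset.mem_univ, true_and]
    have h3 : (g i : ℕ) = lk t i := hr i
    constructor
    · intro h
      rw [cond_eq_ite, if_neg]
      intro hb
      exact h (Fin.ext (h3.trans (Nat.eq_of_beq_eq_true hb)))
    · intro h hb
      have h4 : lk t i = (i : ℕ) := by rw [← h3, hb]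
      rw [h4, Nat.beq_refl, cond_true] at h
      exact absurd h (by decide)
  rw [sign_of_involution h1, h2, hm.neg_one_pow]

theorem memA : gA ∈ Q := mem_Q_iff.2 ⟨mkPerm_mem_autG cA rowsA, sign_one repA sqA cntA (by decide)⟩
theorem memB : gB ∈ Q := mem_Q_iff.2 ⟨mkPerm_mem_autG cB rowsB, sign_one repB sqB cntB' (by decide)⟩
theorem memC : gC ∈ Q := mem_Q_iff.2 ⟨mkPerm_mem_autG cC rowsC, sign_one repC sqC cntC (by decide)⟩

def gn : ℕ → Perm (Fin 100)
  | 0 => gA
  | 1 => gB
  | _ => gC

def gt : ℕ → ℕ
  | 0 => tA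
  | 1 => tB
  | _ => tC

theorem rep_gn (k : ℕ) : Rep (gn k) [gt k] := by
  match k with
  | 0 => exact repA
  | 1 => exact repB
  | (_ + 2) => exact repC

/-- the members of the central series -/
def g (k : ℕ) : Perm (Fin 100) := ((wd.getD k []).map gn).prod

theorem chk_g : ((List.range 9).all fun k =>
    allB (fun i => Nat.beq (ev (((wd.getD k []).map gt).reverse) i) (ev [tbf k] i)) 100) = true := by
  decide +kernel

theorem rep_g {k : ℕ} (hk : k < 9) : Rep (g k) [tbf k] := by
  have h := chk_g
  rw [List.all_eq_true] at h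
  exact (rep_prod (L := wd.getD k []) fun j _ => rep_gn j).change (h k (List.mem_range.2 hk))

theorem chk_sq : ((List.range 9).all fun i => (sqw.getD i []).all (fun k => Nat.blt i k && Nat.blt k 9) &&
    allB (fun x => Nat.beq (ev ([tbf i] ++ [tbf i]) x) (ev (((sqw.getD i []).map tbf).reverse) x)) 100) = true := by
  decide +kernel

theorem chk_com : ((List.range 9).all fun i => (List.range 9).all fun j => !(Nat.blt i j) ||
    (((comw.getD i []).getD j []).all (fun k => Nat.blt j k && Nat.blt k 9) &&
    allB (fun x => Nat.beq (ev ([tbf j] ++ [tbf i]) x)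
      (ev (((((comw.getD i []).getD j []).map tbf).reverse) ++ ([tbf i] ++ [tbf j])) x)) 100)) = true := by
  decide +kernel

theorem all_lt {L : List ℕ} {i : ℕ} (h : L.all (fun k => Nat.blt i k && Nat.blt k 9) = true) :
    ∀ k ∈ L, i + 1 ≤ k ∧ k < 9 := by
  intro k hk
  rw [List.all_eq_true] at h
  have h1 := h k hk
  rw [Bool.and_eq_true] at h1
  exact ⟨Nat.le_of_ble_eq_true h1.1, Nat.le_of_ble_eq_true h1.2⟩

theorem cert : Cert g 9 := by
  constructor
  · intro i hi
    have h := chk_sq
    rw [List.all_eq_true] at h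
    have h1 := h i (List.mem_range.2 hi)
    rw [Bool.and_eq_true] at h1
    have h2 := all_lt h1.1
    have h3 : g i * g i = ((sqw.getD i []).map g).prod :=
      ((rep_g hi).mul (rep_g hi)).eq (rep_prod (t := tbf) fun k hk => rep_g (h2 k hk).2) h1.2
    rw [h3]
    exact prod_mem_N h2
  · intro i j hij hj
    have h := chk_com
    rw [List.all_eq_true] at h
    have h1 := h i (List.mem_range.2 (hij.trans hj))
    rw [List.all_eq_true] at h1
    have h4 := h1 j (List.mem_range.2 hj)
    have h5 : Nat.blt i j = true := Nat.ble_eq_true_of_le hij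
    rw [h5, Bool.not_true, Bool.false_or, Bool.and_eq_true] at h4
    have h2 := all_lt h4.1
    refine ⟨(((comw.getD i []).getD j []).map g).prod, prod_mem_N h2, ?_⟩
    exact ((rep_g (hij.trans hj)).mul (rep_g hj)).eq (((rep_g hj).mul (rep_g (hij.trans hj))).mul
      (rep_prod (t := tbf) fun k hk => rep_g (h2 k hk).2)) h4.2

/-- the Sylow 2-subgroup -/
def T : Subgroup (Perm (Fin 100)) := N g 9 0

theorem g_zero : g 0 = gA := by
  show [gA].prod = gA
  exact List.prod_singleton
theorem g_one : g 1 = gB := by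
  show [gB].prod = gB
  exact List.prod_singleton
theorem g_two : g 2 = gC := by
  show [gC].prod = gC
  exact List.prod_singleton

theorem mA : gA ∈ T := by rw [← g_zero]; exact mem_N le_rfl (by norm_num)
theorem mB : gB ∈ T := by rw [← g_one]; exact mem_N (by norm_num) (by norm_num)
theorem mC : gC ∈ T := by rw [← g_two]; exact mem_N (by norm_num) (by norm_num)

theorem gn_mem {H : Subgroup (Perm (Fin 100))} (hA : gA ∈ H) (hB : gB ∈ H) (hC : gC ∈ H) (k : ℕ) : gn k ∈ H := by
  match k with
  | 0 => exact hA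
  | 1 => exact hB
  | (_ + 2) => exact hC

theorem T_le {H : Subgroup (Perm (Fin 100))} (hA : gA ∈ H) (hB : gB ∈ H) (hC : gC ∈ H) : T ≤ H := by
  rw [T, N, Subgroup.closure_le]
  rintro _ ⟨i, -, -, rfl⟩
  apply list_prod_mem
  intro x hx
  obtain ⟨k, -, rfl⟩ := List.mem_map.1 hx
  exact gn_mem hA hB hC k

theorem T_le_Q : T ≤ Q := T_le memA memB memC

theorem lin2_T : Lin2 T := by
  intro f x
  have h1 : ∀ y (hy : y ∈ T), y * y = 1 → (⟨y, hy⟩ : T) ∈ ((powMonoidHom 2).comp f).ker := by
    intro y hy hyy
    show f ⟨y, hy⟩ ^ 2 = 1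
    rw [pow_two, ← map_mul]
    have h2 : (⟨y, hy⟩ : T) * ⟨y, hy⟩ = 1 := Subtype.ext hyy
    rw [h2, map_one]
  have h3 : T ≤ (((powMonoidHom 2).comp f).ker).map T.subtype :=
    T_le ⟨_, h1 _ mA sqA, rfl⟩ ⟨_, h1 _ mB sqB, rfl⟩ ⟨_, h1 _ mC sqC, rfl⟩
  obtain ⟨y, hy, he⟩ := h3 x.2
  have h2 : y = x := Subtype.ext he
  rw [h2] at hy
  exact hy

/-! ### the order -/

theorem inA : InG T tA := ⟨gA, mA, fun _ => rfl⟩
theorem inB : InG T tB := ⟨gB, mB, fun _ => rfl⟩
theorem inC : InG T tC := ⟨gC, mC, fun _ => rfl⟩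

def T1 : Subgroup (Perm (Fin 100)) := ps T 2

theorem in1 : InG T1 u1 := InG.ps (word_of (L := [tB, tA, tB]) (mem3 inA inB inC) (by simp) (by decide +kernel))
  (by decide +kernel)
theorem in2 : InG T1 u2 := InG.ps (word_of (L := [tA, tB, tC, tB, tA]) (mem3 inA inB inC) (by simp) (by decide +kernel))
  (by decide +kernel)

theorem card_ge : 512 ≤ Nat.card T := by
  have h5 : 1 ≤ Nat.card (ps T1 3) := Nat.card_pos
  have h4 : 8 * 1 ≤ Nat.card T1 :=
    card_ge_of_chk (x := 3) (L := [u1, u2]) in1 (mem2 in1 in2) (C := oc1) (by decide +kernel)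
      (by decide +kernel) h5
  have h3 : 64 * (8 * 1) ≤ Nat.card T :=
    card_ge_of_chk (x := 2) (L := [tA, tB, tC]) inA (mem3 inA inB inC) (C := oc0) (by decide +kernel)
      (by decide +kernel) h4
  exact h3

theorem card_T : Nat.card T = 512 := by
  have h1 : Nat.card T ∣ 2 ^ 9 := cert.card_dvd 9 0 (by norm_num)
  obtain ⟨k, hk, h2⟩ := (Nat.dvd_prime_pow Nat.prime_two).1 h1
  have h3 := card_ge
  rw [h2] at h3 ⊢
  have h4 : 9 ≤ k := by
    by_contra hlt
    have h5 : 2 ^ k ≤ 2 ^ 8 := Nat.pow_le_pow_right (by norm_num) (by omega)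
    have h6 : (2 : ℕ) ^ 8 = 256 := by norm_num
    omega
  have h5 : k = 9 := by omega
  rw [h5]
  norm_num

theorem elem_Q : Elem Q := by
  have h2 : Fact (Nat.Prime 2) := ⟨Nat.prime_two⟩
  have e : T.subgroupOf Q ≃* T := Subgroup.subgroupOfEquivOfLe T_le_Q
  have hc : Nat.card (T.subgroupOf Q) = 2 ^ (Nat.card Q).factorization 2 := by
    rw [Nat.card_congr e.toEquiv, card_T, card_Q,
      show (44352000 : ℕ) = 2 ^ 9 * 86625 by norm_num, Nat.factorization_mul (by norm_num) (by norm_num),
      Nat.Prime.factorization_pow Nat.prime_two, Finsupp.add_apply, Finsupp.single_eq_same,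
      Nat.factorization_eq_zero_of_not_dvd (n := 86625) (by norm_num)]
    norm_num
  exact elem_of_sylow (Sylow.ofCard (T.subgroupOf Q) hc) (lin2_equiv e.symm lin2_T)

/-- **The Higman-Sims group.** -/
theorem elem_hs {G : Type u} [Group G] [Finite G] (h : Cfsg.Spor.IsoHS G) : Elem G := by
  obtain ⟨e⟩ := h
  obtain ⟨⟨f⟩, -⟩ := nonempty_Q
  exact elem_congr (f.trans e.symm) elem_Q

end Cfsg.Agent.H809.Sd.HS
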