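import Cfsg.Agent.H24.Sd.Tools
import Cfsg.Agent.Schreier.McLaughlin

/-!
# S4579: the McLaughlin group (helper809)

The Sylow 2-subgroup (`Schreier.SylMTwentyTwo.T`, order 128) is generated by involutions.
-/

set_option autoImplicit false

namespace Cfsg.Agent.H809.Sd.McL

open Cfsg.Agent.H643.Sd Cfsg.Agent.H24.Sd Cfsg.Agent.Schreier.SylMTwentyTwo Cfsg Cfsg.Agent.Golay.Orbit

universe u

/-- involutions (as words in the generators) whose product is the generator `k` -/
def dat : List (List (List ℕ)) :=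
  [[[2, 1, 1, 1], [2, 1, 1, 1, 0]], [[2, 0, 0, 0], [1, 2, 2, 2, 0]], [[2, 0, 0, 0], [2, 1, 1, 1], [2, 1, 1, 1, 0]]]

def pr (L : List (List ℕ)) : List ℕ := L.foldr (fun w acc => mulL (ev w) acc) idL

def okL (L : List (List ℕ)) : Bool :=
  L.all (fun w => w.all (fun k => Nat.blt k 3) && (mulL (ev w) (ev w) == idL))

theorem dat_ok : ((List.range 3).all fun k => okL (dat.getD k []) && (pr (dat.getD k []) == gl.getD k [])) = true := by
  decide +kernel

theorem exists_pr (f : T →* ℂˣ) (L : List (List ℕ)) (h : okL L = true) :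
    ∃ g : T, Rp (g : Equiv.Perm GolayPt) (pr L) ∧ f g ^ 2 = 1 := by
  induction L with
  | nil => exact ⟨1, rp_one, by rw [map_one, one_pow]⟩
  | cons w L ih =>
    rw [okL, List.all_cons, Bool.and_eq_true, Bool.and_eq_true] at h
    obtain ⟨⟨h1, h2⟩, h3⟩ := h
    obtain ⟨g, hg, hf⟩ := ih h3
    rw [List.all_eq_true] at h1
    obtain ⟨x, hx, hr⟩ := exists_ev w (fun k hk => Nat.le_of_ble_eq_true (h1 k hk))
    have hxx : x * x = 1 := by
      have h4 := hr.mul hr
      rw [eq_of_beq h2] at h4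
      exact h4.inj rp_one
    refine ⟨⟨x, hx⟩ * g, hr.mul hg, ?_⟩
    rw [map_mul, mul_pow, hf, mul_one, pow_two, ← map_mul]
    have h5 : (⟨x, hx⟩ : T) * ⟨x, hx⟩ = 1 := Subtype.ext hxx
    rw [h5, map_one]

theorem lin2_T : Lin2 T := by
  intro f x
  have hk : ∀ k : Fin 3, f (tgen k) ^ 2 = 1 := by
    intro k
    have h := dat_ok
    rw [List.all_eq_true] at h
    have h1 := h k (List.mem_range.2 k.2)
    rw [Bool.and_eq_true] at h1
    obtain ⟨g, hg, hf⟩ := exists_pr f _ h1.1
    rw [eq_of_beq h1.2] at hg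
    have : tgen k = g := Subtype.ext ((rp_gen k).inj hg)
    rw [this]
    exact hf
  have h2 : Subgroup.closure ((Finset.univ.image tgen : Finset T) : Set T) ≤ ((powMonoidHom 2).comp f).ker := by
    rw [Subgroup.closure_le]
    intro y hy
    rw [Finset.mem_coe, Finset.mem_image] at hy
    obtain ⟨k, -, rfl⟩ := hy
    exact hk k
  rw [closure_tgen] at h2
  exact h2 (Subgroup.mem_top x)

/-- **The McLaughlin group.** -/
theorem elem_mcl {G : Type u} [Group G] [Finite G] (h : Cfsg.Spor.IsoMcL G) : Elem G := by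
  obtain ⟨e⟩ := h
  have hc := Schreier.McLaughlin.card_mcl
  have hfin : Finite Spor.McL := Nat.finite_of_card_ne_zero (by rw [hc]; norm_num)
  obtain ⟨P, ⟨e'⟩⟩ := Schreier.McLaughlin.exists_sylow
  exact elem_congr e.symm (elem_of_sylow P (lin2_equiv e' lin2_T))

end Cfsg.Agent.H809.Sd.McL
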